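import Cfsg.Agent.LeU.U33.Pres

set_option autoImplicit false
set_option maxRecDepth 100000

namespace Cfsg.Agent.LeU.U33
open Cfsg.Agent.Comp

noncomputable def n0 : Net :=
(Net.cons (nat_lit 0x43) (nat_lit 32)
(Net.cons (nat_lit 0x4ce40000f800) (nat_lit 16)
(Net.cons (nat_lit 0x18000000400000) (nat_lit 8)
(Net.cons (nat_lit 0x4080a04040e0804) (nat_lit 4)
(Net.cons (nat_lit 0x202002000020) (nat_lit 2)
(Net.cons (nat_lit 0x1404454051100141) (nat_lit 1)
(Net.cons (nat_lit 0x102331001030313) (nat_lit 2)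
(Net.cons (nat_lit 0x40b0700090c080e) (nat_lit 4)
(Net.cons (nat_lit 0x5c003d0082) (nat_lit 8)
(Net.cons (nat_lit 0x3e40000f800) (nat_lit 16)
(Net.cons (nat_lit 0x43) (nat_lit 32)
Net.nil)))))))))))

noncomputable def n1 : Net :=
(Net.cons (nat_lit 0x43) (nat_lit 32)
(Net.cons (nat_lit 0x8e40000f800) (nat_lit 16)
(Net.cons (nat_lit 0xa800800000) (nat_lit 8)
(Net.cons (nat_lit 0x404000e0c04080c) (nat_lit 4)
(Net.cons (nat_lit 0x20222202220020) (nat_lit 2)
(Net.cons (nat_lit 0x1140111414410414) (nat_lit 1)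
(Net.cons (nat_lit 0x100123201110313) (nat_lit 2)
(Net.cons (nat_lit 0x40704020e0a080c) (nat_lit 4)
(Net.cons (nat_lit 0x1800fc003e0081) (nat_lit 8)
(Net.cons (nat_lit 0xeec0000f800) (nat_lit 16)
(Net.cons (nat_lit 0x43) (nat_lit 32)
Net.nil)))))))))))

noncomputable def n2 : Net :=
(Net.cons (nat_lit 0x5244c36) (nat_lit 32)
(Net.cons (nat_lit 0x3dcb00001c10) (nat_lit 16)
(Net.cons (nat_lit 0x15009e00820008) (nat_lit 8)
(Net.cons (nat_lit 0x7020e0c0e0c080a) (nat_lit 4)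
(Net.cons (nat_lit 0x1200020020002020) (nat_lit 2)
(Net.cons (nat_lit 0x1145140515411114) (nat_lit 1)
(Net.cons (nat_lit 0x1011113131211000) (nat_lit 2)
(Net.cons (nat_lit 0x50f000906010408) (nat_lit 4)
(Net.cons (nat_lit 0x5000f60014009c) (nat_lit 8)
(Net.cons (nat_lit 0x77870000b0b8) (nat_lit 16)
(Net.cons (nat_lit 0x1568ba) (nat_lit 32)
Net.nil)))))))))))

noncomputable def n3 : Net :=
(Net.cons (nat_lit 0x1568ba) (nat_lit 32)
(Net.cons (nat_lit 0x73870000b0b0) (nat_lit 16)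
(Net.cons (nat_lit 0x4000f60014009c) (nat_lit 8)
(Net.cons (nat_lit 0x500000606020408) (nat_lit 4)
(Net.cons (nat_lit 0x1002220000222000) (nat_lit 2)
(Net.cons (nat_lit 0x1151415045444114) (nat_lit 1)
(Net.cons (nat_lit 0x1223312312121020) (nat_lit 2)
(Net.cons (nat_lit 0x70d0e030e09080a) (nat_lit 4)
(Net.cons (nat_lit 0x1d009e00820008) (nat_lit 8)
(Net.cons (nat_lit 0x3fcb00009c10) (nat_lit 16)
(Net.cons (nat_lit 0x5244c36) (nat_lit 32)
Net.nil)))))))))))

noncomputable def n4 : Net :=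
(Net.cons (nat_lit 0x10) (nat_lit 32)
(Net.cons (nat_lit 0x6e4f0000c700) (nat_lit 16)
(Net.cons (nat_lit 0x1006400000080) (nat_lit 8)
(Net.cons (nat_lit 0x3080c0404080200) (nat_lit 4)
(Net.cons (nat_lit 0x1022202002000000) (nat_lit 2)
(Net.cons (nat_lit 0x1411441104555114) (nat_lit 1)
(Net.cons (nat_lit 0x232300123033032) (nat_lit 2)
(Net.cons (nat_lit 0x508080406080e00) (nat_lit 4)
(Net.cons (nat_lit 0x4900d4009d0080) (nat_lit 8)
(Net.cons (nat_lit 0x6f4f0000e600) (nat_lit 16)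
(Net.cons (nat_lit 0x20) (nat_lit 32)
Net.nil)))))))))))

noncomputable def n5 : Net :=
(Net.cons (nat_lit 0x20) (nat_lit 32)
(Net.cons (nat_lit 0x6f4f0000e600) (nat_lit 16)
(Net.cons (nat_lit 0x3100d400620080) (nat_lit 8)
(Net.cons (nat_lit 0x408080408060e00) (nat_lit 4)
(Net.cons (nat_lit 0x22000200000002) (nat_lit 2)
(Net.cons (nat_lit 0x541141455015144) (nat_lit 1)
(Net.cons (nat_lit 0x1102102303213030) (nat_lit 2)
(Net.cons (nat_lit 0x1080c0408040200) (nat_lit 4)
(Net.cons (nat_lit 0x79006400ff0080) (nat_lit 8)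
(Net.cons (nat_lit 0x6e4f0000c700) (nat_lit 16)
(Net.cons (nat_lit 0x10) (nat_lit 32)
Net.nil)))))))))))

noncomputable def n6 : Net :=
(Net.cons (nat_lit 0x1ab1186) (nat_lit 32)
(Net.cons (nat_lit 0xce400000a84) (nat_lit 16)
(Net.cons (nat_lit 0x44001a005200dc) (nat_lit 8)
(Net.cons (nat_lit 0x40a000804020002) (nat_lit 4)
(Net.cons (nat_lit 0x22000000202) (nat_lit 2)
(Net.cons (nat_lit 0x454041115400411) (nat_lit 1)
(Net.cons (nat_lit 0x1030030201031313) (nat_lit 2)
(Net.cons (nat_lit 0x50a0c0700030906) (nat_lit 4)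
(Net.cons (nat_lit 0x44005e005700ae) (nat_lit 8)
(Net.cons (nat_lit 0x25a400000e83) (nat_lit 16)
(Net.cons (nat_lit 0x1ceb18c1) (nat_lit 32)
Net.nil)))))))))))

noncomputable def T : List Net := [n0, n1, n2, n3, n4, n5, n6]

theorem ok : TOK 63 T := TOK_of_ok (by decide +kernel)

def E : List (List Nat × List Nat) :=
  []

theorem sat : Sat (sig T) R :=
  sat_of_relsP ok (by norm_num) (show relsP (nat_lit 63) (nat_lit 6) (nat_lit 0) (nat_lit 6) T R = true by decide +kernel)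

theorem eqs : ∀ e ∈ E, ev (sig T) e.1 = ev (sig T) e.2 := eqs_nil _

def lowW1 : List (List Nat) := [[0],
   [1],
   [2],
   [3],
   [4],
   [5]]

def lowW2 : List (List Nat) := [[0],
   [1],
   [2],
   [3]]

def lowW3 : List (List Nat) := [[0],
   [1]]

theorem low_3 : 4 ≤ Nat.card (genW (sig T) lowW3) :=
  chain_step (W' := []) (b := 7) (n := 4) (m := 1) ok (le_of_subOK eqs (show subOK lowW3 [] E = true by decide +kernel)) (by decide +kernel)
    (le_ncard_of_ivl (a := 7) ok (by norm_num) (show Nat.beq (grow T lowW3 [0, 0, 0] (pt (nat_lit 7))) (ivl (nat_lit 7) (nat_lit 4)) = true by decide +kernel))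
    (chain_base ok [])

theorem low_2 : 16 ≤ Nat.card (genW (sig T) lowW2) :=
  chain_step (W' := lowW3) (b := 29) (n := 4) (m := 4) ok (le_of_subOK eqs (show subOK lowW2 lowW3 E = true by decide +kernel)) (by decide +kernel)
    (le_ncard_of_ivl (a := 27) ok (by norm_num) (show Nat.beq (grow T lowW2 [2, 2, 2] (pt (nat_lit 29))) (ivl (nat_lit 27) (nat_lit 4)) = true by decide +kernel))
    low_3

theorem low_1 : 96 ≤ Nat.card (genW (sig T) lowW1) :=
  chain_step (W' := lowW2) (b := 1) (n := 6) (m := 16) ok (le_of_subOK eqs (show subOK lowW1 lowW2 E = true by decide +kernel)) (by decide +kernel)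
    (le_ncard_of_ivl (a := 1) ok (by norm_num) (show Nat.beq (grow T lowW1 [4, 0, 4, 0] (pt (nat_lit 1))) (ivl (nat_lit 1) (nat_lit 6)) = true by decide +kernel))
    low_2

theorem low : 6048 ≤ Nat.card (genW (sig T) (letters 7)) :=
  chain_step (W' := lowW1) (b := 0) (n := 63) (m := 96) ok (le_of_subOK eqs (show subOK (letters 7) lowW1 E = true by decide +kernel)) (by decide +kernel)
    (le_ncard_of_ivl (a := 0) ok (by norm_num) (show Nat.beq (grow T (letters 7) [6, 0, 2, 6, 0, 2, 0, 6, 0, 4, 6] (pt (nat_lit 0))) (ivl (nat_lit 0) (nat_lit 63)) = true by decide +kernel))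
    low_1


end Cfsg.Agent.LeU.U33
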