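import Cfsg.Agent.LeU.U33.Up
import Cfsg.Agent.LeU.U33.Nets

set_option autoImplicit false
set_option maxRecDepth 100000

namespace Cfsg.Agent.LeU.U33
open Cfsg.Agent.Comp

def W0 : List (List Nat) := [[0],
[1],
[2],
[3],
[4],
[5]]

noncomputable def phi : G →* Equiv.Perm ℕ := (pres.rep ok sat).choose

theorem rep : Rep s 7 63 T phi := (pres.rep ok sat).choose_spec

theorem trans : ∀ i < 63, ∃ g, phi g 0 = i :=
  rep.trans (sch := [6, 0, 2, 6, 0, 2, 0, 6, 0, 4, 6]) (by decide +kernel)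

theorem stab : (genW s W0).index = 63 ∧ ∀ g, g ∈ genW s W0 ↔ phi g 0 = 0 :=
  rep.stab_eq (by decide +kernel) (by norm_num) trans (by decide +kernel) (Top.index _ s pres.sat)

theorem orb1 : MulAction.orbit (genW (sig T) W0) 1 = Set.Ico 1 (1 + 6) ∧
    (MulAction.orbit (genW (sig T) W0) 1).ncard = 6 :=
  orbit_ivl (sch := [4, 0, 4, 0]) ok (by norm_num) (by norm_num) (by decide +kernel) (by decide +kernel)

theorem orb7 : MulAction.orbit (genW (sig T) W0) 7 = Set.Ico 7 (7 + 24) ∧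
    (MulAction.orbit (genW (sig T) W0) 7).ncard = 24 :=
  orbit_ivl (sch := [0, 2, 4, 0, 4, 0]) ok (by norm_num) (by norm_num) (by decide +kernel) (by decide +kernel)

theorem orb31 : MulAction.orbit (genW (sig T) W0) 31 = Set.Ico 31 (31 + 32) ∧
    (MulAction.orbit (genW (sig T) W0) 31).ncard = 32 :=
  orbit_ivl (sch := [0, 2, 4, 0, 2, 4, 0, 0]) ok (by norm_num) (by norm_num) (by decide +kernel) (by decide +kernel)

namespace Col

noncomputable def t0 : Tr := (Tr.leaf (nat_lit 0xffffffffffffffffffffffff000ffffffffffffffffffffffff000ffffffffffffffffffffffff000ffffffffffffffffffffffff000ffffffffffffffffffffffff000ffffffffffffffffffffffff000ffffffffffffffffffffffff811092fffffffff053fff0110324d00d3010fffffffffffffff0334b02351b60350102151d51f51954902501b5010fffffffffffffff470fffffffffffffff010fff0574501300f0ffffff010ffffff0f34300b0034fffffffff077fff0104100d0073ffffff037fff010fff000fff1902702901501700f0110))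

noncomputable def T : Tr := t0

def RT : List (List (List Nat)) := [
  [[nat_lit 6, nat_lit 2],
   [nat_lit 1, nat_lit 1, nat_lit 1],
   [nat_lit 2, nat_lit 0, nat_lit 3],
   [nat_lit 0],
   [nat_lit 4, nat_lit 2, nat_lit 4]],
  [[nat_lit 1],
   [nat_lit 5, nat_lit 3, nat_lit 5]],
  [[nat_lit 6, nat_lit 0]],
  [[nat_lit 1, nat_lit 6],
   [nat_lit 1, nat_lit 3, nat_lit 0],
   [nat_lit 3]],
  [],
  [[nat_lit 4, nat_lit 4],
   [nat_lit 5]],
  [[nat_lit 0, nat_lit 3],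
   [nat_lit 6],
   [nat_lit 2, nat_lit 1],
   [nat_lit 4, nat_lit 6, nat_lit 5],
   [nat_lit 5, nat_lit 6, nat_lit 4]],
  [[nat_lit 3, nat_lit 6, nat_lit 3, nat_lit 6, nat_lit 3, nat_lit 6],
   [nat_lit 1, nat_lit 0],
   [nat_lit 0, nat_lit 1],
   [nat_lit 3, nat_lit 2],
   [nat_lit 6, nat_lit 0, nat_lit 0, nat_lit 6, nat_lit 0, nat_lit 0, nat_lit 6, nat_lit 1, nat_lit 1],
   [nat_lit 5, nat_lit 4]]]

def HT : List (List (Nat × Nat × Nat)) := [
  [(1, 0, 0), (1, 8, 0), (1, 9, 0), (0, 1, 0), (1, 12, 0)],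
  [(0, 1, 1), (0, 12, 1)],
  [(0, 0, 2)],
  [(1, 0, 2), (0, 9, 2), (0, 3, 1)],
  [],
  [(0, 11, 0), (0, 5, 1)],
  [(0, 0, 0), (0, 7, 0), (1, 0, 1), (0, 13, 0), (0, 13, 2)],
  [(1, 14, 1), (0, 1, 1), (0, 1, 0), (0, 3, 1), (0, 15, 8), (0, 5, 1)]]

def R : List (List Nat) :=
  [[0, 3, 6],
   [0, 1],
   [1, 0],
   [2, 3],
   [3, 2],
   [4, 5],
   [5, 4],
   [6, 6],
   [0, 0, 0, 0],
   [0, 2, 1, 3],
   [2, 2, 2, 2],
   [4, 4, 4],
   [0, 5, 3, 5],
   [4, 6, 5, 6],
   [2, 6, 2, 6, 2, 6],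
   [0, 0, 6, 0, 0, 6, 1, 1, 6]]

def W : List (List Nat) := []

noncomputable def P : Par := ⟨T, (nat_lit 4), (nat_lit 15), (nat_lit 108), (nat_lit 12), (nat_lit 4095), (nat_lit 5), (nat_lit 31), (nat_lit 7), (nat_lit 17), (nat_lit 32), (nat_lit 0x83988510c01), RT⟩

noncomputable def J0 : List Nat := [
  nat_lit 0x8e0043209e004b20ae00473021886f000432109880086594b88015662141086900043238800ce4be004f210c4212f8011c80138000999230006b21884210842108431ac0007325b2d8025cd60003992d000672946b00043368000de40b4000c333800219084210c6732800de6500019cc42c210caa4118006190842108421084210842108421084210842108421084210842108421084210842108421]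

theorem c0 : chk T (nat_lit 4) (nat_lit 15) (nat_lit 108) (nat_lit 12) (nat_lit 4095) (nat_lit 5) (nat_lit 31) (nat_lit 7) (nat_lit 17) (nat_lit 32) (nat_lit 0x83988510c01) (nat_lit 3) (nat_lit 7) RT (nat_lit 16) J0 (nat_lit 16) = true := by
  decide +kernel

theorem r0 : P.RowsOK 16 32 := chk_sound P _ _ _ J0 _ _ (by decide +kernel) c0

theorem index.{u} : IndexLe.{u} 7 R W 1 :=
  indexLe_of_cert P HT (by decide +kernel)
    (show P.RowsOK 16 32 from r0)

end Col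

theorem card : Finite G ∧ Nat.card G = 6048 ∧ Function.Injective phi :=
  rep.card_eq up low

def primT : List (List Nat × List Nat) :=
  [([6, 2, 2, 6], [0, 5, 1, 5, 1, 0, 5, 1, 5, 1, 0, 5, 1, 1]),
   ([6, 0, 3, 6], [0, 1, 3, 5, 1, 5, 3, 0, 3, 1, 3, 5, 1]),
   ([6], [0, 1, 3, 0, 1, 3, 0, 1, 5, 0, 3])]

theorem prim_0 : Nat.beq (grow T ([6, 2, 2, 6] :: W0) [0, 5, 1, 5, 1, 0, 5, 1, 5, 1, 0, 5, 1, 1] (pt (nat_lit 0))) (ivl (nat_lit 0) (nat_lit 63)) = true := by
  decide +kernel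

theorem prim_1 : Nat.beq (grow T ([6, 0, 3, 6] :: W0) [0, 1, 3, 5, 1, 5, 3, 0, 3, 1, 3, 5, 1] (pt (nat_lit 0))) (ivl (nat_lit 0) (nat_lit 63)) = true := by
  decide +kernel

theorem prim_2 : Nat.beq (grow T ([6] :: W0) [0, 1, 3, 0, 1, 3, 0, 1, 5, 0, 3] (pt (nat_lit 0))) (ivl (nat_lit 0) (nat_lit 63)) = true := by
  decide +kernel

theorem prim : Prim (gen (sig T) 7) 0 :=
  prim_of_cert (W := W0) (ts := primT) (sch := [0, 2, 4, 0, 2, 0, 4, 2, 0]) ok (ok.genW_le _) (by norm_num) (genW_le_gen (by decide +kernel)) (by decide +kernel)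
    (fun t ht => ev_mem fun x hx => letter_mem_gen ((by decide +kernel : ∀ t ∈ primT, ∀ x ∈ t.1, x < 7) t ht x hx)) (by decide +kernel)
    (by simp only [primT, List.forall_mem_cons]; exact ⟨prim_0, prim_1, prim_2, by simp⟩)

def XP : List (List Nat) := [[0, 3, 6, 0, 3, 6, 0, 3, 6, 0, 3, 6, 0, 3, 6, 0, 3, 6, 0, 3, 6]]

theorem satX : Sat (sig T) XP :=
  sat_of_relsP ok (by norm_num) (show relsP (nat_lit 63) (nat_lit 6) (nat_lit 0) (nat_lit 6) T XP = true by decide +kernel)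

theorem simple : IsSimpleGroup G :=
  rep.simple (m := 96) (p := 7) (X := [[0, 3, 6]]) card.2.2 (by norm_num) (by norm_num) trans prim card.2.1 (by norm_num) pres.sat
    Col.index (by decide +kernel) (by decide +kernel) (satX.mono (by decide +kernel))


end Cfsg.Agent.LeU.U33
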