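import Cfsg.Agent.LeU.Nort
import Cfsg.Agent.LeU.U33.Main

/-! Irreducible representations of degrees 6, 14 and 21 of the unitary group of order 6048. -/

set_option autoImplicit false
set_option maxRecDepth 100000
set_option Elab.async false

namespace Cfsg.Agent.LeU.U33
open Cfsg.Agent.Comp Cfsg.Agent.LeU.Nort

def M14 : List (List (List ℤ)) :=
  [[[1, 0, 0, 1, 0, 0, 0, 0, 0, -1, 0, 0, 0, 0],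
    [0, 0, 0, 2, 0, 0, 0, 0, 0, -1, 0, 0, 0, 0],
    [0, 1, 0, -1, 0, 0, 0, 0, 0, 0, 0, 0, 0, 0],
    [0, 0, 0, 1, 0, 0, 1, 0, 0, -1, 0, 0, 0, 0],
    [0, -1, 0, -1, 0, 0, 0, 0, -1, 1, 0, 1, 0, 0],
    [0, -1, 0, -2, 0, 0, 0, 0, -1, 2, 0, 0, 1, 0],
    [0, 1, 1, 1, 0, 0, 0, 0, 0, -1, 0, 0, 0, 0],
    [0, 0, 0, 2, 1, 0, 0, 0, 1, -1, 0, 0, 0, 0],
    [0, 1, 0, 1, 0, 1, 0, 0, 1, -1, 0, 0, 0, 0],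
    [0, 0, 0, 2, 0, 0, 0, 0, 0, -1, 1, 0, 0, 0],
    [0, 1, 0, 0, 0, 0, 0, 0, 0, -1, 0, 0, 0, 0],
    [0, 0, 0, 2, 0, 0, 0, 0, 1, -2, 0, 0, 0, 1],
    [0, 0, 0, 1, 0, 0, 0, 0, 1, -1, -1, 0, 0, 0],
    [0, -1, 0, 1, 0, 0, 0, 1, -1, 0, 1, 0, 0, 0]],
   [[1, 0, 1, 0, 0, 0, 0, 0, 0, 0, -1, 0, 0, 0],
    [0, 1, 2, 0, 0, 0, 0, 0, 0, 0, -1, 0, 0, 0],
    [0, -1, -1, 0, 0, 0, 1, 0, 0, 0, 0, 0, 0, 0],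
    [0, 1, 1, 0, 0, 0, 0, 0, 0, 0, -1, 0, 0, 0],
    [0, 0, -1, 0, 0, 0, 0, 1, 0, -1, 1, 0, -1, 0],
    [0, 0, -2, 0, 0, 0, 0, 0, 1, -1, 1, 0, -1, 0],
    [0, 0, 1, 1, 0, 0, 0, 0, 0, 0, -1, 0, 0, 0],
    [0, 0, 2, 0, 0, 0, 0, 0, 0, 0, -1, 0, 1, 1],
    [0, -1, 1, 0, 0, 0, 0, 0, 0, 1, -1, 0, 1, 0],
    [0, 1, 2, 0, 0, 0, 0, 0, 0, 0, -2, 0, 0, 0],
    [0, -1, 0, 0, 0, 0, 0, 0, 0, 1, 0, 0, 0, 0],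
    [0, 0, 2, 0, 1, 0, 0, 0, 0, 1, -1, 0, 1, 0],
    [0, 0, 1, 0, 0, 1, 0, 0, 0, 1, 0, 0, 1, 0],
    [0, 1, 1, 0, 0, 0, 0, 0, 0, -1, -1, 1, -1, 0]],
   [[1, 0, 0, 0, -1, 1, 0, 0, 0, 0, 0, 0, 0, 0],
    [0, 1, 0, 0, -2, 2, 0, 0, 0, 0, 0, 0, 0, 0],
    [0, 0, 0, 0, 1, -1, 0, -1, 1, 0, 0, 0, 0, 0],
    [0, 0, 0, 0, -1, 1, 0, 0, 0, 1, 0, -1, 1, 0],
    [0, 0, 0, 0, 0, -1, 0, 0, 0, -1, -1, 0, 0, 1],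
    [0, -1, 0, 0, 1, -2, 0, 0, 0, -1, -1, 0, 0, 1],
    [0, 0, 0, 0, -1, 1, 0, 0, 0, 1, 0, 0, 0, -1],
    [0, 1, 1, 0, -1, 2, 0, 0, 0, 0, 0, 1, 0, 0],
    [0, 0, 0, 0, 0, 1, 0, 0, 0, 0, 1, 1, 0, 0],
    [0, 0, 0, 0, -2, 2, 0, 0, 0, 1, 0, 0, 0, 0],
    [0, 0, 0, 0, 0, 0, 0, 0, 0, 0, 1, 0, 0, 0],
    [0, 0, 0, 1, -1, 2, 0, 1, 0, 0, 1, 0, 0, 0],
    [0, 0, 0, 0, 0, 1, 0, 1, 0, 0, 1, 0, 0, 0],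
    [0, 0, 0, 0, -1, 1, 1, 0, 0, 0, -1, 0, 0, 0]],
   [[1, -1, 0, 0, 1, -1, 0, 0, 0, 0, 0, 0, 0, 0],
    [0, -1, 0, 0, 2, -2, 0, 0, 0, 0, 0, 0, 0, 0],
    [0, 0, 0, 0, -1, 1, 0, 1, -1, 0, 1, 0, 0, 0],
    [0, -1, 0, 0, 1, -1, 0, 0, 0, 0, 0, 1, -1, 0],
    [0, 0, 0, 0, -1, 0, -1, 0, 0, 0, -1, 0, 0, 0],
    [0, 1, 0, 0, -2, 1, -1, 0, 0, 0, -1, 0, 0, 0],
    [0, -1, 0, 0, 1, -1, 0, 0, 0, 0, 1, 0, 0, 1],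
    [0, -1, 0, 0, 2, -1, 1, 0, 0, 0, 0, 0, 1, 0],
    [0, 0, 1, 0, 1, 0, 1, 0, 0, 0, 0, 0, 1, 0],
    [0, -2, 0, 0, 2, -2, 0, 0, 0, 1, 0, 0, 0, 0],
    [0, 0, 0, 0, 0, 0, 0, 0, 0, 0, 1, 0, 0, 0],
    [0, -1, 0, 0, 2, -1, 1, 0, 1, 0, 0, 0, 0, 0],
    [0, 0, 0, 1, 1, 0, 1, 0, 1, -1, 0, 0, 0, 0],
    [0, -1, 0, 0, 1, -1, -1, 0, 0, 1, 0, 0, 0, 0]],
   [[1, 0, 0, 0, 0, 0, 0, 0, 0, 0, 0, 0, 0, 0],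
    [0, 0, 0, 0, 0, 0, 0, 0, 1, 0, 0, 0, 0, 1],
    [0, 0, 0, 0, 1, 0, 1, 0, 0, 0, 0, 0, 0, -1],
    [0, 0, 0, 0, 0, 0, 0, 0, 0, 0, 1, 0, 0, 1],
    [0, -1, 0, 0, 0, 0, -1, 0, 0, 1, 0, 0, 0, 0],
    [0, -1, 0, 1, 0, 0, -1, 0, 0, 0, 0, 0, 0, 0],
    [0, 0, 0, 0, 0, 0, 1, 0, 0, 0, 0, 0, 0, 0],
    [0, 0, 0, 0, 0, 0, 0, 1, 0, 0, 0, 0, 0, 0],
    [0, 1, 0, 0, 0, 0, 0, 0, 0, 0, 0, 0, 0, -1],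
    [0, 0, 1, 0, 0, 0, 0, 0, 0, 0, 0, 1, 0, 1],
    [0, 1, 0, 0, 0, 1, 1, 0, 0, 0, 0, 0, 0, -1],
    [0, 1, 0, 0, 0, 0, 0, 0, 0, 0, 0, 0, 0, 0],
    [0, 1, 0, 0, 0, 0, 0, 0, 0, 0, 0, -1, 1, 0],
    [0, -1, 0, 0, 0, 0, 0, 0, 0, 0, 0, 1, 0, 1]],
   [[1, 0, 0, 0, 0, 0, 0, 0, 0, 0, 0, 0, 0, 0],
    [0, 0, 0, 0, 0, 0, 0, 0, 0, 0, 0, 1, 0, 0],
    [0, 0, 0, 0, 0, 0, 0, 0, 0, 1, 0, -1, 0, -1],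
    [0, 0, 0, 0, 0, 1, 1, 0, 0, 0, 0, 1, 0, 0],
    [0, 0, 1, 0, 0, 0, -1, 0, -1, 0, 0, 1, 0, 0],
    [0, 0, 0, 0, 0, 0, -1, 0, -1, 0, 1, 0, 0, 0],
    [0, 0, 0, 0, 0, 0, 1, 0, 0, 0, 0, 0, 0, 0],
    [0, 0, 0, 0, 0, 0, 0, 1, 0, 0, 0, 0, 0, 0],
    [0, 1, 0, 0, 0, 0, 0, 0, 1, 0, 0, -1, 0, 0],
    [0, 0, 0, 0, 1, 0, 1, 0, 0, 0, 0, 1, 0, 0],
    [0, 0, 0, 1, 0, 0, 0, 0, 1, 0, 0, -1, 0, 0],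
    [0, 0, 0, 0, 0, 0, 0, 0, 1, 0, 0, 0, 0, 1],
    [0, 0, 0, 0, 0, 0, 0, 0, 1, 0, 0, -1, 1, 1],
    [0, 0, 0, 0, 0, 0, 0, 0, -1, 0, 0, 1, 0, 0]],
   [[1, 0, 0, 0, 0, 0, 0, 0, 0, 0, 0, 0, 0, 0],
    [2, -1, 0, 0, 0, 0, 0, 0, 0, 0, 0, 0, 0, 0],
    [-1, 0, 0, 0, 0, 0, 0, 1, -1, 0, 1, 0, 0, 0],
    [1, -1, 0, 0, 0, 0, 0, 0, 0, 1, 0, -1, 1, 0],
    [-1, 1, 0, 0, 0, 1, 0, -1, 1, 0, 0, 1, 0, 0],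
    [-2, 1, 0, 0, 1, 0, 0, -1, 1, 0, 0, 1, 0, 0],
    [1, -1, 0, 0, 0, 0, 1, 1, -1, 0, 0, -1, 1, 0],
    [2, 0, 0, 0, 0, 0, 0, 0, 0, 0, 0, 0, -1, -1],
    [1, 0, 0, 0, 0, 0, 0, 1, -1, 0, 0, 0, -1, -1],
    [2, -1, 0, 1, 0, 0, 0, 0, 0, 0, 0, -1, 1, 0],
    [0, 0, 1, 0, 0, 0, 0, 1, -1, 0, 0, 0, 0, 0],
    [2, 0, 0, 0, 0, 0, 0, 0, 0, 0, 0, -1, 0, 0],
    [1, 0, 0, 0, 0, 0, 0, 0, 0, 0, 0, 0, -1, 0],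
    [1, 0, 0, 0, 0, 0, 0, -1, 0, 0, 0, 0, 1, 0]]]

def W14 : List (List ℕ) := [[], [4, 3, 0, 6], [0, 6], [1, 6], [2, 6], [3, 6], [0, 0, 6], [2, 0, 6], [3, 0, 6], [4, 0, 6], [6, 0, 6], [2, 1, 6], [3, 1, 6], [2, 0, 0, 6]]

def M21 : List (List (List ℤ)) :=
  [[[1, 0, 0, -4, -16, 0, 0, 2, 0, 0, -10, 0, -38, 0, 0, 0, 4, 0, -23, -25, 0],
    [0, 0, 1, -3, -20, 0, 0, 0, 0, 0, -9, 0, -38, 0, 0, 0, 2, 0, -27, -24, 0],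
    [0, 0, 0, -2, -8, 0, 0, 0, 0, 0, -4, 0, -17, 0, 0, 1, 2, 0, -11, -12, 0],
    [0, 0, 0, 3, -3, 0, 0, -8, 0, 0, 5, 0, 12, 0, 0, 0, -6, 0, -1, 12, 0],
    [0, 0, 0, -2, 9, 0, 0, 6, 0, 0, -2, 0, 0, 0, 0, 0, 4, 0, 9, -4, 0],
    [0, 0, 0, 0, -11, 0, 0, -3, 0, 0, -3, 0, -15, 0, 1, 0, 0, 0, -14, -8, 0],
    [0, 0, 0, -3, -20, 1, 0, 0, 0, 0, -9, 0, -37, 0, 0, 0, 2, 0, -27, -22, 0],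
    [0, 0, 0, -3, -8, 0, 0, 3, 0, 0, -6, 0, -23, 0, 0, 0, 3, 0, -12, -16, 0],
    [0, 0, 0, -2, 1, 0, 0, 3, 0, 1, -3, 0, -8, 0, 0, 0, 3, 0, 0, -7, 0],
    [0, 0, 0, -3, -4, 0, 0, 5, 0, 0, -7, 0, -21, 0, 0, 0, 4, 0, -8, -15, 0],
    [0, 0, 0, 0, -2, 0, 0, 0, 0, 0, -1, 0, -4, 0, 0, 0, 0, 0, -3, -2, 0],
    [0, 1, 0, -6, -8, 0, 0, 9, 0, 0, -12, 0, -38, 0, 0, 0, 9, 0, -15, -29, 0],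
    [0, 0, 0, -1, 4, 0, 0, 3, 0, 0, -1, 0, -3, 0, 0, 0, 2, 0, 3, -3, 0],
    [0, 0, 0, 0, 13, 0, 0, 6, 0, 0, 1, 0, 10, 1, 0, 0, 3, 0, 15, 3, 0],
    [0, 0, 0, -6, -18, 0, 0, 6, 0, 0, -14, 0, -50, 0, 0, 0, 7, 1, -27, -35, 0],
    [0, 0, 0, -3, -16, 0, 0, 1, 0, 0, -9, 1, -35, 0, 0, 0, 3, 0, -22, -23, 0],
    [0, 0, 0, 3, 11, 0, 0, -3, 0, 0, 8, 0, 28, 0, 0, 0, -3, 0, 16, 19, 0],
    [0, 0, 0, -3, -13, 0, 1, 1, 0, 0, -8, 0, -30, 0, 0, 0, 3, 0, -19, -19, 0],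
    [0, 0, 0, 3, -10, 0, 0, -9, 1, 0, 4, 0, 4, 0, 0, 0, -6, 0, -9, 7, 0],
    [0, 0, 0, 0, 0, 0, 0, 0, 0, 0, 0, 0, 0, 0, 0, 0, 0, 0, 0, -1, 0],
    [0, 0, 0, -3, -24, 0, 0, -3, 0, 0, -9, 0, -38, 0, 0, 0, 1, 0, -31, -23, 1]],
   [[1, 0, 0, 2, 22, 0, 0, 14, 0, -23, 48, 0, -15, 0, 0, 0, 0, 0, 0, -19, 0],
    [0, 0, 0, 3, 24, 0, 0, 14, 0, -27, 51, 1, -15, 0, 0, 0, -3, 0, 0, -22, 0],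
    [0, 1, 0, 1, 11, 0, 0, 6, 0, -11, 22, 0, -7, 0, 0, 0, 0, 0, 0, -10, 0],
    [0, 0, 0, -1, -3, 0, 0, -6, 0, -1, -9, 0, 5, 0, 0, 0, -6, 0, 0, 0, 0],
    [0, 0, 0, 0, -5, 0, 0, 0, 0, 9, -6, 0, 1, 0, 0, 0, 6, 0, 0, 8, 0],
    [0, 0, 0, 1, 12, 0, 1, 5, 0, -14, 22, 0, -6, 0, 0, 0, -3, 0, 0, -11, 0],
    [0, 0, 0, 2, 24, 0, 0, 14, 0, -27, 50, 0, -15, 0, 0, 0, -3, 1, 0, -22, 0],
    [0, 0, 0, 1, 12, 0, 0, 9, 0, -12, 28, 0, -9, 0, 0, 0, 1, 0, 0, -10, 0],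
    [0, 0, 0, 0, 3, 0, 0, 3, 0, 0, 7, 0, -3, 0, 0, 0, 3, 0, 1, -1, 0],
    [0, 0, 0, 1, 9, 0, 0, 8, 1, -8, 24, 0, -8, 0, 0, 0, 3, 0, 0, -6, 0],
    [0, 0, 0, 0, 2, 0, 0, 2, 0, -3, 5, 0, -1, 0, 0, 0, 0, 0, 0, -2, 0],
    [0, 0, 0, 2, 18, 0, 0, 15, 0, -15, 43, 0, -15, 0, 0, 1, 6, 0, 0, -13, 0],
    [0, 0, 0, 0, -1, 0, 0, 1, 0, 3, 0, 0, -1, 0, 0, 0, 3, 0, 0, 3, 0],
    [0, 0, 0, 0, -11, 0, 0, -3, 0, 15, -20, 0, 4, 1, 0, 0, 6, 0, 0, 12, 0],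
    [0, 0, 0, 3, 28, 1, 0, 20, 0, -27, 61, 0, -20, 0, 0, 0, 2, 0, 0, -23, 0],
    [0, 0, 1, 2, 21, 0, 0, 13, 0, -22, 46, 0, -14, 0, 0, 0, -1, 0, 0, -19, 0],
    [0, 0, 0, -2, -16, 0, 0, -11, 0, 16, -35, 0, 11, 0, 0, 0, 0, 0, 0, 13, 0],
    [0, 0, 0, 2, 18, 0, 0, 11, 0, -19, 39, 0, -12, 0, 1, 0, 0, 0, 0, -16, 0],
    [0, 0, 0, 0, 4, 0, 0, -2, 0, -9, 2, 0, 1, 0, 0, 0, -8, 0, 0, -8, 0],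
    [0, 0, 0, 0, 0, 0, 0, 0, 0, 0, 0, 0, 0, 0, 0, 0, 0, 0, 0, -1, 0],
    [0, 0, 0, 2, 27, 0, 0, 14, 0, -31, 55, 0, -15, 0, 0, 0, -5, 0, 0, -26, 1]],
   [[1, 0, 22, -23, -10, 0, 0, -9, -15, 42, 0, -16, 2, 2, 0, -22, 20, 0, 0, -4, 18],
    [0, 0, 24, -27, -9, 0, 1, -8, -15, 45, 0, -20, 0, -1, 0, -21, 20, 0, 0, -6, 16],
    [0, 0, 11, -11, -4, 1, 0, -3, -7, 20, 0, -8, 0, 0, 0, -10, 9, 0, 0, -3, 7],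
    [0, 0, -3, -1, 5, 0, 0, 6, 5, -8, 0, -3, -8, -7, 0, 10, -6, 0, 0, -7, -11],
    [0, 1, -5, 9, -2, 0, 0, -3, 1, -6, 0, 9, 6, 6, 0, -3, 0, 0, 0, 8, 4],
    [0, 0, 12, -14, -3, 0, 0, -2, -6, 20, 1, -11, -3, -3, 0, -7, 8, 0, 0, -6, 4],
    [0, 0, 24, -27, -9, 0, 0, -7, -15, 44, 0, -20, 0, -1, 0, -20, 20, 0, 0, -7, 16],
    [0, 0, 12, -12, -6, 0, 0, -6, -9, 24, 0, -8, 3, 3, 0, -14, 12, 0, 0, -1, 13],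
    [0, 0, 3, 0, -3, 0, 0, -3, -3, 6, 0, 1, 3, 4, 0, -6, 4, 0, 0, 2, 6],
    [0, 0, 9, -8, -7, 0, 0, -7, -8, 20, 0, -4, 5, 5, 0, -13, 11, 0, 0, 3, 13],
    [0, 0, 2, -3, -1, 0, 0, -1, -1, 4, 0, -2, 0, 0, 0, -2, 2, 0, 0, -1, 2],
    [0, 0, 18, -15, -12, 0, 0, -12, -15, 37, 0, -8, 9, 8, 0, -25, 20, 1, 0, 4, 23],
    [0, 0, -1, 3, -1, 0, 0, -2, -1, 0, 0, 4, 3, 3, 0, -3, 1, 0, 1, 4, 3],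
    [0, 0, -11, 15, 1, 0, 0, 0, 4, -18, 0, 13, 6, 6, 0, 3, -6, 0, 0, 9, 0],
    [0, 0, 28, -27, -14, 0, 0, -13, -20, 54, 0, -18, 6, 5, 0, -30, 26, 0, 0, -2, 26],
    [0, 0, 21, -22, -9, 0, 0, -8, -14, 40, 0, -16, 1, 1, 1, -20, 19, 0, 0, -5, 16],
    [0, 0, -16, 16, 8, 0, 0, 7, 11, -31, 0, 11, -3, -2, 0, 17, -14, 0, 0, 1, -14],
    [0, 0, 18, -19, -8, 0, 0, -7, -12, 34, 0, -13, 1, 1, 0, -17, 16, 0, 0, -4, 14],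
    [0, 0, 4, -9, 4, 0, 0, 5, 1, 3, 0, -10, -9, -8, 0, 6, -2, 0, 0, -11, -8],
    [0, 0, 0, 0, 0, 0, 0, 0, 0, 0, 0, 0, 0, 0, 0, 0, 0, 0, 0, -1, 0],
    [0, 0, 27, -31, -9, 0, 0, -7, -15, 49, 0, -24, -3, -3, 0, -20, 21, 0, 0, -11, 15]],
   [[1, 0, 0, 25, 0, 0, -10, -15, -9, -4, 22, 0, 0, 18, 48, 0, 20, -22, 2, -16, 2],
    [0, 0, 0, 27, 1, 0, -9, -15, -8, -3, 24, 0, 0, 16, 51, 0, 20, -24, 3, -16, -1],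
    [0, 0, 0, 11, 0, 0, -4, -7, -3, -2, 11, 0, 0, 7, 22, 0, 9, -10, 1, -8, 0],
    [0, 0, 0, -3, 0, 0, 5, 5, 6, 3, -3, 0, 0, -11, -9, 0, -6, 0, -1, 6, -7],
    [0, 0, 0, -5, 0, 0, -2, 1, -3, -2, -5, 0, 0, 4, -6, 0, 0, 6, 0, -1, 6],
    [0, 0, 1, 12, 0, 0, -3, -6, -2, 0, 12, 0, 0, 4, 22, 0, 8, -12, 1, -6, -3],
    [0, 1, 0, 27, 0, 0, -9, -15, -7, -3, 24, 0, 0, 16, 50, 0, 20, -24, 2, -15, -1],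
    [0, 0, 0, 15, 0, 0, -6, -9, -6, -3, 12, 0, 0, 13, 28, 0, 12, -12, 1, -10, 3],
    [0, 0, 0, 3, 0, 0, -3, -3, -3, -2, 3, 0, 0, 6, 7, 0, 4, -2, 0, -4, 4],
    [0, 0, 0, 12, 0, 0, -7, -8, -7, -3, 9, 0, 0, 13, 24, 0, 11, -9, 1, -9, 5],
    [0, 0, 0, 3, 0, 1, -1, -1, -1, 0, 2, 0, 0, 2, 5, 0, 2, -3, 0, -1, 0],
    [0, 0, 0, 21, 0, 0, -12, -15, -12, -6, 18, 0, 0, 23, 43, 0, 20, -15, 2, -17, 8],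
    [0, 0, 0, -1, 0, 0, -1, -1, -2, -1, -1, 0, 0, 3, 0, 0, 1, 1, 0, 0, 3],
    [0, 0, 0, -12, 0, 0, 1, 4, 0, 0, -11, 0, 0, 0, -20, 0, -6, 12, 0, 4, 6],
    [0, 0, 0, 31, 0, 0, -14, -20, -13, -6, 28, 0, 0, 26, 61, 1, 26, -26, 3, -22, 5],
    [0, 0, 0, 24, 0, 0, -9, -14, -8, -3, 21, 0, 0, 16, 46, 0, 19, -21, 2, -15, 1],
    [0, 0, 0, -18, 0, 0, 8, 11, 7, 3, -16, 0, 0, -14, -35, 0, -14, 15, -2, 12, -2],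
    [0, 0, 0, 21, 0, 0, -8, -12, -7, -3, 18, 1, 0, 14, 39, 0, 16, -18, 2, -13, 1],
    [0, 0, 0, 3, 0, 0, 4, 1, 5, 3, 4, 0, 1, -8, 2, 0, -2, -6, 0, 3, -8],
    [0, 0, 0, 0, 0, 0, 0, 0, 0, 0, 0, 0, 0, 0, 0, 0, 0, 0, 0, -1, 0],
    [0, 0, 0, 30, 0, 0, -9, -15, -7, -3, 27, 0, 0, 15, 55, 0, 21, -27, 2, -17, -3]],
   [[1, 0, 0, 0, 0, 0, 0, 22, 2, 0, 2, 0, -23, -14, 0, 25, 12, 0, 0, -25, -30],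
    [0, 1, 0, 0, 0, 0, 0, 24, 3, 0, 0, 0, -27, -12, 0, 27, 15, 0, 0, -30, -30],
    [0, 0, 0, 1, 0, 0, 0, 11, 1, 0, 0, 0, -11, -4, 0, 11, 6, 0, 0, -13, -12],
    [0, 0, 0, 0, 0, 0, 1, -3, -1, 0, -8, 0, -1, 9, 0, -3, 3, 0, 0, -2, 9],
    [0, 0, 0, 0, 0, 0, 0, -5, 0, 1, 6, 0, 9, -5, 0, -5, -6, 0, 0, 12, 0],
    [0, 0, 0, 0, 0, 1, 0, 12, 1, 0, -3, 0, -14, -3, 0, 12, 8, 0, 0, -16, -12],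
    [0, 0, 1, 0, 0, 0, 0, 24, 2, 0, 0, 0, -27, -12, 0, 27, 14, 0, 0, -30, -30],
    [0, 0, 0, 0, 0, 0, 0, 12, 1, 0, 3, 0, -12, -9, 0, 15, 6, 0, 0, -13, -18],
    [0, 0, 0, 0, 0, 0, 0, 3, 0, 0, 3, 0, 0, -5, 0, 3, 0, 0, 0, 0, -6],
    [0, 0, 0, 0, 0, 0, 0, 9, 1, 0, 5, 1, -8, -12, 0, 12, 3, 0, 0, -7, -18],
    [0, 0, 0, 0, 0, 0, 0, 2, 0, 0, 0, 0, -3, -2, 1, 3, 2, 0, 0, -3, -4],
    [0, 0, 0, 0, 1, 0, 0, 18, 2, 0, 9, 0, -15, -19, 0, 21, 6, 0, 0, -15, -30],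
    [0, 0, 0, 0, 0, 0, 0, -1, 0, 0, 3, 0, 3, -4, 0, -1, -3, 1, 0, 5, -3],
    [0, 0, 0, 0, 0, 0, 0, -11, 0, 0, 6, 0, 15, -1, 0, -12, -10, 0, 0, 18, 8],
    [0, 0, 0, 0, 0, 0, 0, 28, 3, 0, 6, 0, -27, -20, 0, 31, 13, 0, 0, -29, -39],
    [0, 0, 0, 0, 0, 0, 0, 21, 2, 0, 1, 0, -22, -12, 0, 24, 12, 0, 0, -25, -27],
    [0, 0, 0, 0, 0, 0, 0, -16, -2, 0, -3, 0, 16, 11, 0, -18, -8, 0, 0, 17, 22],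
    [0, 0, 0, 0, 0, 0, 0, 18, 2, 0, 1, 0, -19, -11, 0, 21, 10, 0, 0, -21, -24],
    [0, 0, 0, 0, 0, 0, 0, 4, 0, 0, -9, 0, -9, 9, 0, 3, 7, 0, 1, -13, 4],
    [0, 0, 0, 0, 0, 0, 0, 0, 0, 0, 0, 0, 0, 1, 0, 0, 1, 0, 0, -1, 1],
    [0, 0, 0, 0, 0, 0, 0, 27, 2, 0, -3, 0, -31, -10, 0, 30, 18, 0, 0, -36, -30]],
   [[1, 0, 0, 0, 0, 0, 0, -4, -10, 0, 0, 0, 0, -13, 2, 42, -4, -23, 0, 0, -25],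
    [0, 1, 0, 0, 0, 0, 0, -3, -9, 0, 0, 0, 0, -12, 0, 45, -6, -27, 0, -3, -24],
    [0, 0, 0, 0, 0, 0, 1, -2, -4, 0, 0, 0, 0, -6, 0, 20, -3, -11, 0, 0, -12],
    [0, 0, 1, 0, 0, 0, 0, 3, 5, 0, 0, 0, 0, 8, -8, -8, -7, -1, 0, -6, 12],
    [0, 0, 0, 0, 0, 0, 0, -2, -2, 0, 0, 1, 0, -4, 6, -6, 8, 9, 0, 6, -4],
    [0, 0, 0, 0, 0, 1, 0, 0, -3, 0, 0, 0, 0, -3, -3, 20, -6, -14, 0, -3, -8],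
    [0, 0, 0, 1, 0, 0, 0, -3, -9, 0, 0, 0, 0, -10, 0, 44, -7, -27, 0, -3, -22],
    [0, 0, 0, 0, 0, 0, 0, -3, -6, 0, 0, 0, 0, -9, 3, 24, -1, -12, 0, 1, -16],
    [0, 0, 0, 0, 0, 0, 0, -2, -3, 0, 0, 0, 0, -4, 3, 6, 2, 0, 0, 3, -7],
    [0, 0, 0, 0, 1, 0, 0, -3, -7, 0, 0, 0, 0, -9, 5, 20, 3, -8, 0, 3, -15],
    [0, 0, 0, 0, 0, 0, 0, 0, -1, 0, 0, 0, 0, -1, 0, 4, -1, -3, 0, 0, -2],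
    [0, 0, 0, 0, 0, 0, 0, -6, -12, 1, 0, 0, 0, -17, 9, 37, 4, -15, 0, 6, -29],
    [0, 0, 0, 0, 0, 0, 0, -1, -1, 0, 0, 0, 0, -2, 3, 0, 4, 3, 0, 3, -3],
    [0, 0, 0, 0, 0, 0, 0, 0, 1, 0, 0, 0, 0, 0, 6, -18, 9, 15, 0, 6, 3],
    [0, 0, 0, 0, 0, 0, 0, -6, -14, 0, 1, 0, 0, -19, 6, 54, -2, -27, 0, 2, -35],
    [0, 0, 0, 0, 0, 0, 0, -3, -9, 0, 0, 0, 0, -12, 1, 40, -5, -22, 0, -1, -23],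
    [0, 0, 0, 0, 0, 0, 0, 3, 8, 0, 0, 0, 0, 10, -3, -31, 1, 16, 0, 0, 19],
    [0, 0, 0, 0, 0, 0, 0, -3, -8, 0, 0, 0, 1, -10, 1, 34, -4, -19, 0, 0, -19],
    [0, 0, 0, 0, 0, 0, 0, 3, 4, 0, 0, 0, 0, 6, -9, 3, -11, -9, 1, -8, 7],
    [0, 0, 0, 0, 0, 0, 0, 0, 0, 0, 0, 0, 0, -1, 0, 0, -1, 0, 0, 0, -1],
    [0, 0, 0, 0, 0, 0, 0, -3, -9, 0, 0, 0, 0, -11, -3, 49, -11, -31, 0, -5, -23]],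
   [[0, 1, 0, 0, 0, 14, 0, 18, 7, 0, -3, 0, 0, -16, 4, 0, 12, -25, -9, -15, 0],
    [1, 0, 0, 0, 0, 14, 0, 16, 11, 0, -1, 0, 0, -16, 2, 0, 9, -24, -8, -15, 0],
    [0, 0, 0, 0, 0, 6, 0, 7, 6, 1, -1, 0, 0, -8, 2, 0, 5, -12, -3, -7, 0],
    [0, 0, 0, 0, 0, -6, 0, -11, 7, 0, 6, 1, 0, 6, -6, 0, -9, 12, 6, 5, 0],
    [0, 0, 0, 0, 0, 0, 1, 4, -10, 0, -5, 0, 0, -1, 4, 0, 5, -4, -3, 1, 0],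
    [0, 0, 0, 0, 0, 5, 0, 4, 8, 0, 2, 0, 0, -6, 0, 0, 2, -8, -2, -6, 0],
    [0, 0, 0, 0, 1, 14, 0, 16, 10, 0, -1, 0, 0, -15, 2, 0, 9, -22, -7, -15, 0],
    [0, 0, 0, 0, 0, 9, 0, 13, 2, 0, -3, 0, 0, -10, 3, 0, 8, -16, -6, -9, 0],
    [0, 0, 0, 0, 0, 3, 0, 6, -3, 0, -3, 0, 0, -4, 3, 0, 5, -7, -3, -3, 0],
    [0, 0, 1, 0, 0, 8, 0, 13, -4, 0, -4, 0, 0, -9, 4, 0, 9, -15, -7, -8, 0],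
    [0, 0, 0, 0, 0, 2, 0, 2, 0, 0, 0, 0, 0, -1, 0, 0, 1, -2, -1, -1, 0],
    [0, 0, 0, 1, 0, 15, 0, 23, -3, 0, -8, 0, 0, -17, 9, 0, 17, -29, -12, -15, 0],
    [0, 0, 0, 0, 0, 1, 0, 3, -6, 0, -3, 0, 0, 0, 2, 0, 3, -3, -2, -1, 1],
    [0, 0, 0, 0, 0, -3, 0, 0, -12, 0, -4, 0, 0, 4, 3, 0, 2, 3, 0, 4, 0],
    [0, 0, 0, 0, 0, 20, 0, 26, 6, 0, -6, 0, 0, -22, 7, 0, 17, -35, -13, -20, 0],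
    [0, 0, 0, 0, 0, 13, 0, 16, 8, 0, -2, 0, 0, -15, 3, 1, 10, -23, -8, -14, 0],
    [0, 0, 0, 0, 0, -11, 0, -14, -4, 0, 3, 0, 0, 12, -3, 0, -8, 19, 7, 11, 0],
    [0, 0, 0, 0, 0, 11, 0, 14, 6, 0, -2, 0, 0, -13, 3, 0, 9, -19, -7, -12, 0],
    [0, 0, 0, 0, 0, -2, 0, -8, 14, 0, 7, 0, 0, 3, -6, 0, -8, 7, 5, 1, 0],
    [0, 0, 0, 0, 0, 0, 0, 0, 2, 0, 1, 0, 0, -1, 0, 0, 0, -1, 0, 0, 0],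
    [0, 0, 0, 0, 0, 14, 0, 15, 16, 0, 1, 0, 1, -17, 1, 0, 8, -23, -7, -15, 0]]]

def W21 : List (List ℕ) := [[], [6], [1, 6], [6, 0, 6], [2, 6], [3, 1, 6], [3, 6], [5, 2, 1, 6], [0, 4, 0, 6], [4, 0, 6], [2, 2, 1, 6], [0, 6], [4, 3, 0, 6], [2, 6, 5, 2, 1, 6], [3, 0, 0, 6], [0, 0, 6], [0, 6, 2, 0, 0, 6], [3, 0, 6], [3, 4, 3, 0, 6], [1, 6, 3, 0, 6], [6, 4, 3, 0, 6]]

def M6 : List (List (List (ℤ × ℤ))) :=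
  [[[(0, 1), (1, 0), (0, -1), (0, 0), (0, 0), (0, 0)],
    [(0, 0), (-1, -1), (-2, 0), (0, 0), (0, 0), (0, 1)],
    [(0, 0), (0, 1), (-1, 1), (-1, 0), (1, 0), (2, 0)],
    [(0, 0), (0, 1), (1, 1), (-1, 0), (0, 0), (1, -1)],
    [(0, 0), (0, 1), (1, 0), (-1, 0), (0, 0), (1, 0)],
    [(0, 0), (0, 1), (0, 2), (0, 0), (0, 0), (1, -1)]],
   [[(0, -1), (-1, 0), (0, 0), (0, -1), (0, 1), (0, 1)],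
    [(0, 0), (1, 1), (0, 0), (-2, 0), (2, 0), (2, -1)],
    [(0, 0), (0, -1), (0, 0), (0, 1), (0, -1), (-1, -1)],
    [(0, 0), (-1, -1), (0, 0), (0, 1), (-1, -1), (-1, 0)],
    [(0, 0), (-1, -1), (1, 0), (1, 0), (-2, 0), (-2, 0)],
    [(0, 0), (0, -1), (0, 0), (0, 2), (0, -2), (-1, -1)]],
   [[(1, 0), (0, -1), (0, 0), (0, 0), (0, -1), (0, 0)],
    [(0, 0), (-1, 0), (0, 0), (0, 0), (-2, 0), (0, 0)],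
    [(0, 0), (-1, 1), (0, 0), (-1, 0), (0, 1), (1, 1)],
    [(0, 0), (0, 1), (1, 0), (0, 0), (0, 1), (0, 0)],
    [(0, 0), (0, 0), (0, 0), (0, 0), (1, 0), (0, 1)],
    [(0, 0), (0, 2), (0, 0), (0, 0), (0, 2), (1, 0)]],
   [[(1, 0), (0, 1), (0, 0), (0, 0), (0, 1), (1, 0)],
    [(0, 0), (3, 0), (0, 0), (0, 0), (2, 0), (0, -2)],
    [(0, 0), (0, -1), (0, 0), (1, 0), (0, -1), (-1, 0)],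
    [(0, 0), (-1, -1), (-1, 0), (0, 0), (0, -1), (0, 1)],
    [(0, 0), (-2, 0), (0, 0), (0, 0), (-1, 0), (0, 1)],
    [(0, 0), (0, -2), (0, 0), (0, 0), (0, -2), (-1, 0)]],
   [[(0, 0), (-1, 0), (0, 0), (0, 1), (-1, 0), (0, 0)],
    [(1, -1), (0, 1), (0, 0), (2, -1), (0, 2), (0, 0)],
    [(0, -1), (0, -1), (0, 0), (-1, -1), (1, 0), (-1, 0)],
    [(0, 0), (0, -1), (0, 0), (-2, 0), (1, -1), (0, 0)],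
    [(0, 1), (0, -1), (0, 0), (-2, 0), (0, -1), (0, 0)],
    [(-1, -1), (0, 0), (1, 0), (-1, -1), (1, 0), (-1, 0)]],
   [[(-1, 0), (1, 0), (0, 0), (0, -1), (1, 0), (0, 0)],
    [(-1, 1), (-1, -1), (0, 0), (-2, 1), (0, -2), (0, 0)],
    [(0, 1), (0, 1), (-1, 0), (1, 1), (-1, 0), (1, 0)],
    [(0, 0), (0, 1), (0, 0), (1, 0), (-1, 1), (0, 0)],
    [(0, -1), (0, 1), (0, 0), (2, 0), (-1, 1), (0, 0)],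
    [(1, 1), (0, 0), (-1, 0), (1, 1), (-1, 0), (0, 0)]],
   [[(0, 0), (0, 1), (1, 0), (0, 0), (0, 1), (0, 0)],
    [(0, 0), (1, 0), (0, 0), (0, 0), (1, -1), (1, -1)],
    [(1, 0), (1, 0), (0, 0), (0, 0), (0, 0), (0, -1)],
    [(0, 0), (0, 0), (0, 0), (-1, 0), (0, 0), (0, 0)],
    [(0, 0), (-1, 1), (0, 0), (0, 0), (-1, 1), (0, 1)],
    [(0, 0), (1, -1), (0, 0), (0, 0), (0, -1), (-1, -1)]]]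

def W6 : List (List ℕ) := [[], [0, 6, 0, 6], [6], [2, 6], [1, 6], [6, 4]]

def PK : List (List (ℤ × List ℕ)) :=
  [[(1, []), (1, [0])], [(1, []), (1, [0, 0])], [(1, []), (1, [2])], [(1, []), (1, [2, 2])],
   [(1, []), (1, [4]), (1, [5]), (1, [4, 0]), (1, [5, 1]), (1, [4, 0, 4])]]

def PT : List (List ((ℤ × ℤ) × List ℕ)) :=
  [[((1, 0), []), ((0, -1), [0])], [((1, 0), []), ((-1, 0), [0, 0])],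
   [((1, 0), []), ((1, 0), [2])], [((1, 0), []), ((1, 0), [2, 2])]]

theorem rows6 : Rows 6 M6 := by unfold Rows; decide +kernel

theorem rel6 : ∀ w ∈ R, ∀ j < 6, app opG M6 w (bv opG 6 j) = bv opG 6 j := by decide +kernel

theorem rk6 : ∀ j < 5 + 1, (pp opG M6 PT (bv opG (5 + 1) j)).tail = List.replicate 5 opG.z := by
  decide +kernel

theorem spin6 : ∀ j < 5 + 1, app opG M6 (W6.getD j []) (bv opG (5 + 1) 0) = bv opG (5 + 1) j := by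
  decide +kernel

theorem hd6 : (pp opG M6 PT (bv opG (5 + 1) 0)).getD 0 opG.z = (16, 0) := by decide +kernel

theorem irr6 : ∃ χ : G → ℂ, IsIrrCharacter G χ ∧ χ 1 = (6 : ℕ) := by
  have := card.1
  exact exists_irr (m := 5) pres hR (by decide +kernel) homG rows6 (by decide +kernel)
    (sat_of homG rows6 rel6) rk6 (by rw [hd6]; simp) spin6

theorem rows14 : Rows 14 M14 := by unfold Rows; decide +kernel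

theorem rel14_0 : ∀ w ∈ (R.drop 0).take 8, ∀ j < 14,
    app opZ M14 w (bv opZ 14 j) = bv opZ 14 j := by decide +kernel

theorem rel14_1 : ∀ w ∈ (R.drop 8).take 4, ∀ j < 14,
    app opZ M14 w (bv opZ 14 j) = bv opZ 14 j := by decide +kernel

theorem rel14_2 : ∀ w ∈ (R.drop 12).take 3, ∀ j < 14,
    app opZ M14 w (bv opZ 14 j) = bv opZ 14 j := by decide +kernel

theorem rel14 : ∀ w ∈ R, ∀ j < 14, app opZ M14 w (bv opZ 14 j) = bv opZ 14 j := by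
  have e : R = (R.drop 0).take 8 ++ (R.drop 8).take 4 ++ (R.drop 12).take 3 := by decide +kernel
  intro w hw
  rw [e] at hw
  simp only [List.mem_append] at hw
  rcases hw with (h | h) | h
  exacts [rel14_0 w h, rel14_1 w h, rel14_2 w h]

theorem rk14 : ∀ j < 13 + 1, (pp opZ M14 PK (bv opZ (13 + 1) j)).tail = List.replicate 13 opZ.z := by
  decide +kernel

theorem spin14 : ∀ j < 13 + 1, app opZ M14 (W14.getD j []) (bv opZ (13 + 1) 0) = bv opZ (13 + 1) j := by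
  decide +kernel

theorem hd14 : (pp opZ M14 PK (bv opZ (13 + 1) 0)).getD 0 opZ.z = 96 := by decide +kernel

theorem irr14 : ∃ χ : G → ℂ, IsIrrCharacter G χ ∧ χ 1 = (14 : ℕ) := by
  have := card.1
  exact exists_irr (m := 13) pres hR (by decide +kernel) homZ rows14 (by decide +kernel)
    (sat_of homZ rows14 rel14) rk14 (by rw [hd14]; simp) spin14

theorem rows21 : Rows 21 M21 := by unfold Rows; decide +kernel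

theorem rel21_0 : ∀ w ∈ (R.drop 0).take 3, ∀ j < 21,
    app opZ M21 w (bv opZ 21 j) = bv opZ 21 j := by decide +kernel

theorem rel21_1 : ∀ w ∈ (R.drop 3).take 3, ∀ j < 21,
    app opZ M21 w (bv opZ 21 j) = bv opZ 21 j := by decide +kernel

theorem rel21_2 : ∀ w ∈ (R.drop 6).take 2, ∀ j < 21,
    app opZ M21 w (bv opZ 21 j) = bv opZ 21 j := by decide +kernel

theorem rel21_3 : ∀ w ∈ (R.drop 8).take 1, ∀ j < 21,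
    app opZ M21 w (bv opZ 21 j) = bv opZ 21 j := by decide +kernel

theorem rel21_4 : ∀ w ∈ (R.drop 9).take 1, ∀ j < 21,
    app opZ M21 w (bv opZ 21 j) = bv opZ 21 j := by decide +kernel

theorem rel21_5 : ∀ w ∈ (R.drop 10).take 2, ∀ j < 21,
    app opZ M21 w (bv opZ 21 j) = bv opZ 21 j := by decide +kernel

theorem rel21_6 : ∀ w ∈ (R.drop 12).take 1, ∀ j < 21,
    app opZ M21 w (bv opZ 21 j) = bv opZ 21 j := by decide +kernel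

theorem rel21_7 : ∀ w ∈ (R.drop 13).take 1, ∀ j < 21,
    app opZ M21 w (bv opZ 21 j) = bv opZ 21 j := by decide +kernel

theorem rel21_8 : ∀ w ∈ (R.drop 14).take 1, ∀ j < 21,
    app opZ M21 w (bv opZ 21 j) = bv opZ 21 j := by decide +kernel

theorem rel21 : ∀ w ∈ R, ∀ j < 21, app opZ M21 w (bv opZ 21 j) = bv opZ 21 j := by
  have e : R = (R.drop 0).take 3 ++
      (R.drop 3).take 3 ++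
      (R.drop 6).take 2 ++
      (R.drop 8).take 1 ++
      (R.drop 9).take 1 ++
      (R.drop 10).take 2 ++
      (R.drop 12).take 1 ++
      (R.drop 13).take 1 ++
      (R.drop 14).take 1 := by decide +kernel
  intro w hw
  rw [e] at hw
  simp only [List.mem_append] at hw
  rcases hw with ((((((((h | h) | h) | h) | h) | h) | h) | h) | h)
  exacts [rel21_0 w h, rel21_1 w h, rel21_2 w h, rel21_3 w h, rel21_4 w h, rel21_5 w h, rel21_6 w h, rel21_7 w h, rel21_8 w h]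

theorem rk21_0 : ∀ j < 7, (pp opZ M21 PK (bv opZ (20 + 1) (0 + j))).tail = List.replicate 20 opZ.z := by
  decide +kernel

theorem rk21_1 : ∀ j < 7, (pp opZ M21 PK (bv opZ (20 + 1) (7 + j))).tail = List.replicate 20 opZ.z := by
  decide +kernel

theorem rk21_2 : ∀ j < 7, (pp opZ M21 PK (bv opZ (20 + 1) (14 + j))).tail = List.replicate 20 opZ.z := by
  decide +kernel

theorem rk21 : ∀ j < 20 + 1, (pp opZ M21 PK (bv opZ (20 + 1) j)).tail = List.replicate 20 opZ.z := by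
  intro j hj
  by_cases h1 : j < 7
  · have := rk21_0 j h1
    rwa [Nat.zero_add] at this
  by_cases h2 : j < 14
  · have := rk21_1 (j - 7) (by omega)
    rwa [show 7 + (j - 7) = j by omega] at this
  · have := rk21_2 (j - 14) (by omega)
    rwa [show 14 + (j - 14) = j by omega] at this

theorem spin21 : ∀ j < 20 + 1, app opZ M21 (W21.getD j []) (bv opZ (20 + 1) 0) = bv opZ (20 + 1) j := by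
  decide +kernel

theorem hd21 : (pp opZ M21 PK (bv opZ (20 + 1) 0)).getD 0 opZ.z = 96 := by decide +kernel

theorem irr21 : ∃ χ : G → ℂ, IsIrrCharacter G χ ∧ χ 1 = (21 : ℕ) := by
  have := card.1
  exact exists_irr (m := 20) pres hR (by decide +kernel) homZ rows21 (by decide +kernel)
    (sat_of homZ rows21 rel21) rk21 (by rw [hd21]; simp) spin21

end Cfsg.Agent.LeU.U33
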