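import Cfsg.Agent.LeU.U33.Pres
import Cfsg.Agent.LeU.U33.Top

set_option autoImplicit false
set_option maxRecDepth 100000

namespace Cfsg.Agent.LeU.U33
open Cfsg.Agent.Comp

namespace Tk2

noncomputable def t0 : Tr := (Tr.leaf (nat_lit 0xfffffffff000fffffffff000fffffffff000fffffffff000fffffffff000fffffffff000fffffffff000fffffffff000fffffffff000fffffffff000fffffffff000fffffffff811fff011052430fff073010410fff010033000fff032031))

noncomputable def T : Tr := t0

def RT : List (List (List Nat)) := [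
  [[nat_lit 1, nat_lit 1, nat_lit 1]],
  [],
  []]

def HT : List (List (Nat × Nat × Nat)) := [
  [(1, 2, 0)],
  [],
  []]

def R : List (List Nat) :=
  [[0, 1],
   [1, 0],
   [0, 0, 0, 0]]

def W : List (List Nat) := []

noncomputable def P : Par := ⟨T, (nat_lit 4), (nat_lit 15), (nat_lit 48), (nat_lit 12), (nat_lit 4095), (nat_lit 5), (nat_lit 31), (nat_lit 2), (nat_lit 20), (nat_lit 32), (nat_lit 0x18801), RT⟩

noncomputable def J0 : List Nat := [
  nat_lit 0x49190691111111111111111111111111111111111111]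

theorem c0 : chk T (nat_lit 4) (nat_lit 15) (nat_lit 48) (nat_lit 12) (nat_lit 4095) (nat_lit 5) (nat_lit 31) (nat_lit 2) (nat_lit 20) (nat_lit 32) (nat_lit 0x18801) (nat_lit 2) (nat_lit 3) RT (nat_lit 16) J0 (nat_lit 16) = true := by
  decide +kernel

theorem r0 : P.RowsOK 16 32 := chk_sound P _ _ _ J0 _ _ (by decide +kernel) c0

theorem index.{u} : IndexLe.{u} 2 R W 4 :=
  indexLe_of_cert P HT (by decide +kernel)
    (show P.RowsOK 16 32 from r0)

end Tk2

theorem upK_2 : CardLe (genW s [[0], [1]]) 4 :=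
  CardLe.tc (V' := []) (n := 4) (m := 1) [0, 1] Tk2.index pres.sat (by decide +kernel) (by decide +kernel) (by decide +kernel) (cardLe_nil s)

namespace Tk1

noncomputable def t0 : Tr := (Tr.leaf (nat_lit 0xfffffffffffffff000fffffffffffffff000fffffffffffffff000fffffffffffffff000fffffffffffffff000fffffffffffffff000fffffffffffffff000fffffffffffffff000fffffffffffffff000fffffffffffffff000fffffffffffffff000fffffffffffffff851fff011052093073470fff073010072052450fff010033071051000fff032031050030))

noncomputable def T : Tr := t0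

def RT : List (List (List Nat)) := [
  [[nat_lit 5],
   [nat_lit 3, nat_lit 0, nat_lit 2],
   [nat_lit 2, nat_lit 0, nat_lit 3]],
  [],
  [[nat_lit 3, nat_lit 3, nat_lit 3]],
  [],
  []]

def HT : List (List (Nat × Nat × Nat)) := [
  [(2, 0, 0), (0, 5, 3), (1, 5, 0)],
  [],
  [(1, 6, 0)],
  [],
  []]

def R : List (List Nat) :=
  [[0, 1],
   [1, 0],
   [2, 3],
   [3, 2],
   [0, 0, 0, 0],
   [0, 2, 1, 3],
   [2, 2, 2, 2]]

def W : List (List Nat) := [[0],
   [1]]

noncomputable def P : Par := ⟨T, (nat_lit 4), (nat_lit 15), (nat_lit 72), (nat_lit 12), (nat_lit 4095), (nat_lit 5), (nat_lit 31), (nat_lit 4), (nat_lit 20), (nat_lit 32), (nat_lit 0xa410c01), RT⟩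

noncomputable def J0 : List Nat := [
  nat_lit 0x8c8002c08860880b0a21084210842108421084210842108421084210842108421084210842108421084210842108421]

theorem c0 : chk T (nat_lit 4) (nat_lit 15) (nat_lit 72) (nat_lit 12) (nat_lit 4095) (nat_lit 5) (nat_lit 31) (nat_lit 4) (nat_lit 20) (nat_lit 32) (nat_lit 0xa410c01) (nat_lit 3) (nat_lit 7) RT (nat_lit 16) J0 (nat_lit 16) = true := by
  decide +kernel

theorem r0 : P.RowsOK 16 32 := chk_sound P _ _ _ J0 _ _ (by decide +kernel) c0

theorem index.{u} : IndexLe.{u} 4 R W 4 :=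
  indexLe_of_cert P HT (by decide +kernel)
    (show P.RowsOK 16 32 from r0)

end Tk1

theorem upK_1 : CardLe (genW s [[0], [1], [2], [3]]) 16 :=
  CardLe.tc (V' := [[0], [1]]) (n := 4) (m := 4) [0, 1, 2, 3] Tk1.index pres.sat (by decide +kernel) (by decide +kernel) (by decide +kernel) upK_2

namespace Tk0

noncomputable def t0 : Tr := (Tr.leaf (nat_lit 0xfffffffffffffffffffff000fffffffffffffffffffff000fffffffffffffffffffff000fffffffffffffffffffff000fffffffffffffffffffff000fffffffffffffffffffff000fffffffffffffffffffff000fffffffffffffffffffff000fffffffffffffffffffff000fffffffffffffffffffffc93fff0130f4155135135155832fff1150b30920d3073012811fff0d40350f40b10110944b0fff0510100710b4034051490fff0100720d3092072033000fff032031050030050030))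

noncomputable def T : Tr := t0

def RT : List (List (List Nat)) := [
  [[nat_lit 7],
   [nat_lit 4, nat_lit 2, nat_lit 4]],
  [[nat_lit 0, nat_lit 0, nat_lit 0],
   [nat_lit 5, nat_lit 3, nat_lit 5]],
  [[nat_lit 7],
   [nat_lit 1, nat_lit 2, nat_lit 0],
   [nat_lit 5, nat_lit 0, nat_lit 5]],
  [[nat_lit 4, nat_lit 1, nat_lit 4],
   [nat_lit 0, nat_lit 3, nat_lit 1]],
  [[nat_lit 3, nat_lit 5, nat_lit 0],
   [nat_lit 5, nat_lit 5]],
  [[nat_lit 4, nat_lit 4]],
  []]

def HT : List (List (Nat × Nat × Nat)) := [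
  [(2, 0, 0), (1, 10, 0)],
  [(0, 6, 0), (0, 10, 1)],
  [(2, 2, 0), (1, 7, 3), (0, 10, 3)],
  [(1, 10, 2), (1, 7, 1)],
  [(0, 10, 2), (1, 9, 0)],
  [(0, 9, 0)],
  []]

def R : List (List Nat) :=
  [[0, 1],
   [1, 0],
   [2, 3],
   [3, 2],
   [4, 5],
   [5, 4],
   [0, 0, 0, 0],
   [0, 2, 1, 3],
   [2, 2, 2, 2],
   [4, 4, 4],
   [0, 5, 3, 5]]

def W : List (List Nat) := [[0],
   [1],
   [2],
   [3]]

noncomputable def P : Par := ⟨T, (nat_lit 4), (nat_lit 15), (nat_lit 96), (nat_lit 12), (nat_lit 4095), (nat_lit 5), (nat_lit 31), (nat_lit 6), (nat_lit 22), (nat_lit 32), (nat_lit 0x3988510c01), RT⟩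

noncomputable def J0 : List Nat := [
  nat_lit 0x464000232000800088580a28222c0018a6d008703884210842108421084210842108421084210842108421084210842108421084210842108421084210842108421]

theorem c0 : chk T (nat_lit 4) (nat_lit 15) (nat_lit 96) (nat_lit 12) (nat_lit 4095) (nat_lit 5) (nat_lit 31) (nat_lit 6) (nat_lit 22) (nat_lit 32) (nat_lit 0x3988510c01) (nat_lit 3) (nat_lit 7) RT (nat_lit 16) J0 (nat_lit 16) = true := by
  decide +kernel

theorem r0 : P.RowsOK 16 32 := chk_sound P _ _ _ J0 _ _ (by decide +kernel) c0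

theorem index.{u} : IndexLe.{u} 6 R W 6 :=
  indexLe_of_cert P HT (by decide +kernel)
    (show P.RowsOK 16 32 from r0)

end Tk0

theorem upK : CardLe (genW s [[0], [1], [2], [3], [4], [5]]) 96 :=
  CardLe.tc (V' := [[0], [1], [2], [3]]) (n := 6) (m := 16) [0, 1, 2, 3, 4, 5] Tk0.index pres.sat (by decide +kernel) (by decide +kernel) (by decide +kernel) upK_1

theorem up : CardLe (gen s 7) 6048 := upK.step (Top.index _ s pres.sat)

end Cfsg.Agent.LeU.U33
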